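import Mathlib
import Cfsg.Agent.H808.GTwo.Base
import Cfsg.Agent.H254.FxEvenTI
import Cfsg.Agent.S4278

/-!
# `NoEv` for `G₂(q)`, `q ≥ 5` odd (helper808, task 2046 of helper254)
-/

set_option autoImplicit false
set_option linter.unusedSectionVars false

namespace Cfsg.Agent.H808.GTwo

open Cfsg.Agent.ChevalleyStructure
open Cfsg Cfsg.Lie Cfsg.Lie.ChevalleyDatum
open Cfsg.Agent.ChevalleyStructure.Elts Cfsg.Agent.ChevalleyStructure.NPerm
open Cfsg.Agent.Nodes.RGDChev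
open Cfsg.Agent.OddHalf.LongSL Cfsg.Agent.OddHalf.LongSL.Chev
open Cfsg.Agent.H808.D4 Cfsg.Agent.H254.Ev
open scoped commutatorElement

theorem hG2 : IsType chevG2 2 CoxeterMatrix.G₂ := by simp [IsType, typeList]

theorem nroots_G2 : chevG2.nroots = 12 := rfl

theorem simple0 : chevG2.simple ((0 : Fin 2) : ℕ) = 7 := by decide +kernel
theorem simple1 : chevG2.simple ((1 : Fin 2) : ℕ) = 6 := by decide +kernel
theorem neg7 : chevG2.neg 7 = 4 := by decide +kernel

/-- an element with `c ^ 3 ≠ 1` -/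
theorem exists_cube_ne {F : Type*} [Field F] [Fintype F] (h : 5 ≤ Fintype.card F) : ∃ c : F, c ≠ 0 ∧ c ^ 3 ≠ 1 := by
  classical
  by_contra hcon
  push Not at hcon
  have h1 : (Finset.univ : Finset F) ⊆ insert 0 (Polynomial.nthRoots 3 (1 : F)).toFinset := by
    intro c _
    rw [Finset.mem_insert]
    by_cases hc : c = 0
    · exact Or.inl hc
    · right
      rw [Multiset.mem_toFinset, Polynomial.mem_nthRoots (by norm_num)]
      exact hcon c hc
  have h2 := Finset.card_le_card h1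
  rw [Finset.card_univ] at h2
  have h3 : (insert 0 (Polynomial.nthRoots 3 (1 : F)).toFinset).card ≤ (Polynomial.nthRoots 3 (1 : F)).toFinset.card + 1 :=
    Finset.card_insert_le _ _
  have h4 : (Polynomial.nthRoots 3 (1 : F)).toFinset.card ≤ Multiset.card (Polynomial.nthRoots 3 (1 : F)) :=
    Multiset.toFinset_card_le _
  have h5 := Polynomial.card_nthRoots 3 (1 : F)
  omega

section

variable (F : Type) [Field F] [Fintype F]

/-- the group generated by the root groups of `± α` and of the roots of `S` -/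
def YY (S : List ℕ) : Subgroup ↥(chevG2.group F) :=
  Subgroup.closure {y | ∃ r ∈ (7 :: 4 :: S), ∃ t : F, y = xx hG2 F r t}

variable {F}

theorem xx_mem_YY {S : List ℕ} {r : ℕ} (hr : r ∈ (7 :: 4 :: S)) (t : F) : xx hG2 F r t ∈ YY F S :=
  Subgroup.subset_closure ⟨r, hr, t, rfl⟩

/-- the `SL₂` of the root `r` -/
noncomputable def ph (F : Type) [Field F] (r : ℕ) (hr : r < chevG2.nroots) :
    Matrix.SpecialLinearGroup (Fin 2) F →* ↥(chevG2.group F) :=
  (Phi hG2 F r hr).codRestrict (chevG2.group F) (Phi_mem hG2 F r hr)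

theorem ph_up (r : ℕ) (hr : r < chevG2.nroots) (t : F) : ph F r hr (SL2Hom.up t) = xx hG2 F r t :=
  Subtype.ext (Phi_up hG2 F r hr t)

theorem ph_lo (r : ℕ) (hr : r < chevG2.nroots) (t : F) : ph F r hr (SL2Hom.lo t) = xx hG2 F (chevG2.neg r) t :=
  Subtype.ext (Phi_lo hG2 F r hr t)

theorem ph_le {r : ℕ} (hr : r < chevG2.nroots) {H : Subgroup ↥(chevG2.group F)} (h1 : ∀ t, xx hG2 F r t ∈ H)
    (h2 : ∀ t, xx hG2 F (chevG2.neg r) t ∈ H) : (ph F r hr).range ≤ H := by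
  rintro _ ⟨s, rfl⟩
  have h3 : s ∈ H.comap (ph F r hr) := by
    refine (Subgroup.closure_le _).2 ?_ (SL2Hom.mem_closure_SL2 s)
    rintro x (⟨t, rfl⟩ | ⟨t, rfl⟩)
    · show ph F r hr _ ∈ H
      rw [ph_up]
      exact h1 t
    · show ph F r hr _ ∈ H
      rw [ph_lo]
      exact h2 t
  exact h3

theorem YY_perfect (hF : 5 ≤ Fintype.card F) {S : List ℕ}
    (hS : ∀ s ∈ S, s < chevG2.nroots ∧ (chevG2.cartan ((0 : Fin 2) : ℕ) s = 1 ∨ chevG2.cartan ((0 : Fin 2) : ℕ) s = -1 ∨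
      chevG2.cartan ((0 : Fin 2) : ℕ) s = 3 ∨ chevG2.cartan ((0 : Fin 2) : ℕ) s = -3)) : ⁅YY F S, YY F S⁆ = YY F S := by
  apply le_antisymm (Subgroup.commutator_le_self _)
  have h7 : 7 < chevG2.nroots := by rw [nroots_G2]; norm_num
  have hJ : (ph F 7 h7).range ≤ YY F S :=
    ph_le h7 (fun t => xx_mem_YY (by simp) t) (fun t => by rw [neg7]; exact xx_mem_YY (by simp) t)
  have hJ' : (ph F 7 h7).range ≤ ⁅YY F S, YY F S⁆ := by
    rw [← perfect_range (by omega) (ph F 7 h7)]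
    exact Subgroup.commutator_mono hJ hJ
  obtain ⟨c, hc0, hc3⟩ := exists_cube_ne hF
  have hh0 : hh hG2 F 0 c ∈ YY F S := hh_mem hG2 F 0 (fun t => by rw [simple0]; exact xx_mem_YY (by simp) t)
    (fun t => by rw [simple0, neg7]; exact xx_mem_YY (by simp) t) c
  unfold YY
  rw [Subgroup.closure_le]
  rintro _ ⟨r, hr, t, rfl⟩
  change xx hG2 F r t ∈ ⁅YY F S, YY F S⁆
  rw [List.mem_cons, List.mem_cons] at hr
  rcases hr with rfl | rfl | hr
  · exact hJ' ⟨SL2Hom.up t, ph_up 7 h7 t⟩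
  · refine hJ' ⟨SL2Hom.lo t, ?_⟩
    rw [ph_lo, neg7]
  · obtain ⟨hr', hcar⟩ := hS r hr
    have hne : c ^ chevG2.cartan ((0 : Fin 2) : ℕ) r ≠ 1 := by
      rcases hcar with h | h | h | h
      · rw [h, zpow_one]
        rintro rfl
        exact hc3 (one_pow 3)
      · rw [h, zpow_neg, zpow_one]
        intro h1
        rw [inv_eq_one] at h1
        rw [h1] at hc3
        exact hc3 (one_pow 3)
      · rw [h]
        exact_mod_cast hc3
      · rw [h, zpow_neg]
        intro h1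
        rw [inv_eq_one] at h1
        exact hc3 (by exact_mod_cast h1)
    have hd : c ^ chevG2.cartan ((0 : Fin 2) : ℕ) r - 1 ≠ 0 := sub_ne_zero.2 hne
    have e : xx hG2 F r t = ⁅hh hG2 F 0 c, xx hG2 F r (t / (c ^ chevG2.cartan ((0 : Fin 2) : ℕ) r - 1))⁆ := by
      rw [commutatorElement_def, hh_conj hG2 F 0 hr' hc0, xx_inv, xx_add]
      congr 1
      field_simp
      ring
    rw [e]
    exact Subgroup.commutator_mem_commutator hh0 (xx_mem_YY (by simp [hr]) _)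

/-- the involution -/
noncomputable def zz (F : Type) [Field F] : ↥(chevG2.group F) := hh hG2 F 0 (-1)

theorem zz_sq : zz F * zz F = 1 := by
  have e : zz F = phi hG2 F 0 (-1) := Subtype.ext (phi_neg_one hG2 F 0).symm
  rw [e, ← map_mul, neg_one_mul, _root_.neg_neg, map_one]

theorem zz_conj {s : ℕ} (hs : s < chevG2.nroots) (h : Even (chevG2.cartan ((0 : Fin 2) : ℕ) s)) (t : F) :
    zz F * xx hG2 F s t = xx hG2 F s t * zz F := by
  have h1 := hh_conj hG2 F 0 hs (neg_ne_zero.2 one_ne_zero) t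
  rw [h.neg_one_zpow, one_mul] at h1
  exact mul_inv_eq_iff_eq_mul.1 h1

theorem zz_ne (h2 : (2 : F) ≠ 0) : zz F ≠ 1 := by
  intro h
  have h8 : 8 < chevG2.nroots := by rw [nroots_G2]; norm_num
  have h1 := hh_conj hG2 F 0 h8 (neg_ne_zero.2 (one_ne_zero (α := F))) 1
  have h2' : hh hG2 F 0 (-1 : F) = 1 := h
  have h3 : chevG2.cartan ((0 : Fin 2) : ℕ) 8 = -1 := by decide +kernel
  rw [h2', h3, one_mul, inv_one, mul_one, zpow_neg, zpow_one, inv_neg, inv_one, mul_one] at h1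
  have h4 := xx_injective hG2 F h8 h1
  apply h2
  linear_combination h4

theorem orderOf_zz (h2 : (2 : F) ≠ 0) : orderOf (zz F) = 2 := by
  rw [orderOf_eq_prime_iff, pow_two]
  exact ⟨zz_sq, zz_ne h2⟩

/-- the tables -/
theorem tabA : ∀ s ∈ ([7, 4, 6, 8, 9, 10] : List ℕ), s < chevG2.nroots ∧ s ≠ 11 ∧ s ≠ chevG2.neg 11 ∧
    chevG2.commTerms 11 s = [] := by decide +kernel

theorem tabB : ∀ s ∈ ([7, 4, 1, 2, 3, 5] : List ℕ), s < chevG2.nroots ∧ s ≠ 0 ∧ s ≠ chevG2.neg 0 ∧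
    chevG2.commTerms 0 s = [] := by decide +kernel

theorem tabC : ∀ s ∈ ([6, 8, 9, 10] : List ℕ), s < chevG2.nroots ∧ (chevG2.cartan ((0 : Fin 2) : ℕ) s = 1 ∨
    chevG2.cartan ((0 : Fin 2) : ℕ) s = -1 ∨ chevG2.cartan ((0 : Fin 2) : ℕ) s = 3 ∨
    chevG2.cartan ((0 : Fin 2) : ℕ) s = -3) := by decide +kernel

theorem tabD : ∀ s ∈ ([1, 2, 3, 5] : List ℕ), s < chevG2.nroots ∧ (chevG2.cartan ((0 : Fin 2) : ℕ) s = 1 ∨
    chevG2.cartan ((0 : Fin 2) : ℕ) s = -1 ∨ chevG2.cartan ((0 : Fin 2) : ℕ) s = 3 ∨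
    chevG2.cartan ((0 : Fin 2) : ℕ) s = -3) := by decide +kernel

theorem neg11 : chevG2.neg 11 = 0 := by decide +kernel

theorem even11 : Even (chevG2.cartan ((0 : Fin 2) : ℕ) 11) ∧ Even (chevG2.cartan ((0 : Fin 2) : ℕ) 0) := by
  decide +kernel

/-- a subgroup with the closure property for perfect subgroups containing `z` is the whole group -/
theorem top_of_perfect (hF : 5 ≤ Fintype.card F) (h2 : (2 : F) ≠ 0) (H : Subgroup ↥(chevG2.group F)) (hz : zz F ∈ H)
    (hp : ∀ x ∈ H, x ≠ 1 → ∀ Y : Subgroup ↥(chevG2.group F), (∀ y ∈ Y, y * x = x * y) → ⁅Y, Y⁆ = Y → Y ≤ H) :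
    H = ⊤ := by
  have h11 : 11 < chevG2.nroots := by rw [nroots_G2]; norm_num
  have h0 : 0 < chevG2.nroots := by rw [nroots_G2]; norm_num
  have hJ : (ph F 11 h11).range ≤ H := by
    refine hp _ hz (zz_ne h2) _ ?_ (perfect_range (by omega) _)
    intro y hy
    refine (commute_range (ph F 11 h11) (u := zz F) ?_ ?_ y hy).symm
    · intro t
      rw [ph_up]
      exact zz_conj h11 even11.1 t
    · intro t
      rw [ph_lo, neg11]
      exact zz_conj h0 even11.2 t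
  have hA : ∀ t, xx hG2 F 11 t ∈ H := fun t => hJ ⟨SL2Hom.up t, ph_up 11 h11 t⟩
  have hB : ∀ t, xx hG2 F 0 t ∈ H := fun t => hJ ⟨SL2Hom.lo t, by rw [ph_lo, neg11]⟩
  have hYA : YY F [6, 8, 9, 10] ≤ H := by
    refine hp _ (hA 1) (xx_ne_one hG2 F h11 one_ne_zero) _ ?_ (YY_perfect hF tabC)
    intro y hy
    have h1 : YY F [6, 8, 9, 10] ≤ Subgroup.centralizer {xx hG2 F 11 1} := by
      unfold YY
      rw [Subgroup.closure_le]
      rintro _ ⟨r, hr, t, rfl⟩
      obtain ⟨e1, e2, e3, e4⟩ := tabA r hr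
      exact Subgroup.mem_centralizer_singleton_iff.2 (xx_comm hG2 F h11 e1 e2 e3 e4 1 t)
    exact Subgroup.mem_centralizer_singleton_iff.1 (h1 hy)
  have hYB : YY F [1, 2, 3, 5] ≤ H := by
    refine hp _ (hB 1) (xx_ne_one hG2 F h0 one_ne_zero) _ ?_ (YY_perfect hF tabD)
    intro y hy
    have h1 : YY F [1, 2, 3, 5] ≤ Subgroup.centralizer {xx hG2 F 0 1} := by
      unfold YY
      rw [Subgroup.closure_le]
      rintro _ ⟨r, hr, t, rfl⟩
      obtain ⟨e1, e2, e3, e4⟩ := tabB r hr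
      exact Subgroup.mem_centralizer_singleton_iff.2 (xx_comm hG2 F h0 e1 e2 e3 e4 1 t)
    exact Subgroup.mem_centralizer_singleton_iff.1 (h1 hy)
  refine top_le_of_xx hG2 F H ?_
  intro r hr t
  rw [nroots_G2] at hr
  interval_cases r
  · exact hB t
  · exact hYB (xx_mem_YY (by simp) t)
  · exact hYB (xx_mem_YY (by simp) t)
  · exact hYB (xx_mem_YY (by simp) t)
  · exact hYB (xx_mem_YY (by simp) t)
  · exact hYB (xx_mem_YY (by simp) t)
  · exact hYA (xx_mem_YY (by simp) t)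
  · exact hYA (xx_mem_YY (by simp) t)
  · exact hYA (xx_mem_YY (by simp) t)
  · exact hYA (xx_mem_YY (by simp) t)
  · exact hYA (xx_mem_YY (by simp) t)
  · exact hA t

theorem finite_G2 : Finite ↥(chevG2.group F) := by
  classical
  have : Finite (GL chevG2.Idx F) := inferInstance
  exact Subtype.finite

/-- `FixLE k H` with an involution in `H`: `H = ⊤` (`k ≤ 4`) -/
theorem eq_top_of_fixLE (hF : 5 ≤ Fintype.card F) (ho : Odd (Fintype.card F)) {k : ℕ} (hk : k ≤ 4)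
    {H : Subgroup ↥(chevG2.group F)} (hH : FixLE k H) {t : ↥(chevG2.group F)} (ht : t ∈ H) (ht2 : orderOf t = 2) :
    H = ⊤ := by
  have hfin : Finite ↥(chevG2.group F) := finite_G2
  have h2 : (2 : F) ≠ 0 := two_ne_of_odd ho
  obtain ⟨c, hc⟩ := isConj_iff.1 (S4278.result ho t (zz F) ht2 (orderOf_zz h2))
  have hH' := hH.conj c
  have hz : zz F ∈ H.map (MulAut.conj c).toMonoidHom := ⟨t, ht, hc⟩
  have h1 := top_of_perfect hF h2 _ hz (fun x hx hx1 Y hY hp => hH'.perfect_le' hk hx hx1 hY hp)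
  rw [eq_top_iff]
  intro y _
  have h3 : c * y * c⁻¹ ∈ H.map (MulAut.conj c).toMonoidHom := by rw [h1]; trivial
  obtain ⟨w, hw, hwy⟩ := h3
  have hwy' : c * w * c⁻¹ = c * y * c⁻¹ := hwy
  rwa [← mul_left_cancel (mul_right_cancel hwy')]

end

/-- **`G₂(q)`, `q ≥ 5` odd.** -/
theorem noEv_g2 (F : Type) [Field F] [Fintype F] (h5 : 5 ≤ Fintype.card F) (ho : Odd (Fintype.card F)) :
    NoEv ↥(Cfsg.Lie.chevG2.group F) := by
  rintro H hH ⟨t, ht2, ht4⟩
  have hfin : Finite ↥(chevG2.group F) := finite_G2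
  have hH1 : H ≠ ⊤ := ne_top_of_exact (by norm_num) ht4
  obtain ⟨a, ha, -⟩ := exists_conj_exact (by norm_num) ht4
  refine hH1 (eq_top_of_fixLE h5 ho le_rfl hH ha ?_)
  rw [← ht2]
  have := (MulAut.conj a⁻¹).orderOf_eq t
  simpa using this

end Cfsg.Agent.H808.GTwo
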